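import Groth.Agent.S2691
import Groth.Agent.GrpSchLib.TensorDomain
import Groth.Agent.IntBC.Main
import Groth.Prelude.Def_CAlg2
import Mathlib

/-! Tensor products of henselian local domains with trivial residue extension over an algebraically
closed field are geometrically unibranch at the closed point. -/

noncomputable section

set_option autoImplicit false
set_option linter.style.haveILetI false
universe u

open TensorProduct IsLocalRing

namespace Groth.Agent.TensorBranch7

variable {k : Type u} [Field k] [IsAlgClosed k]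

theorem geomReduced (F : Type u) [Field F] [Algebra k F] : Algebra.IsGeometricallyReduced k F := by
  refine (Algebra.isGeometricallyReduced_field_iff k F).2 ?_
  let e : k ≃ₐ[k] AlgebraicClosure k := AlgEquiv.ofBijective (Algebra.ofId k _)
    IsAlgClosed.algebraMap_bijective_of_isIntegral
  let E : AlgebraicClosure k ⊗[k] F ≃ₐ[k] F :=
    (Algebra.TensorProduct.congr e.symm AlgEquiv.refl).trans (Algebra.TensorProduct.lid k F)
  exact isReduced_of_injective E E.injective

theorem isIntegrallyClosed_tensor (A B : Type u) [CommRing A] [CommRing B] [IsDomain A] [IsDomain B]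
    [IsIntegrallyClosed A] [IsIntegrallyClosed B] [Algebra k A] [Algebra k B] :
    IsDomain (A ⊗[k] B) ∧ IsIntegrallyClosed (A ⊗[k] B) := by
  haveI := geomReduced (k := k) (FractionRing A)
  haveI := geomReduced (k := k) (FractionRing B)
  haveI : IsDomain (A ⊗[k] B) := GrpSchLib.isDomain_tensor_of_isAlgClosed
  exact ⟨inferInstance, IntBC.isIntegrallyClosed_of_normal _ (S2691.result k A B)⟩

/-- A criterion for geometric unibranchness of a local ring of a domain. -/
theorem isGeomUnibranch_of_normal_cover {D D' R : Type u} [CommRing D] [IsDomain D] [CommRing D'] [IsDomain D']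
    [IsIntegrallyClosed D'] [Algebra k D] [Algebra D D'] [Algebra.IsIntegral D D']
    (hinj : Function.Injective (algebraMap D D')) (hbir : ∀ x : D', ∃ a b : D, a ≠ 0 ∧ x * algebraMap D D' a = algebraMap D D' b)
    (m : Ideal D) [m.IsMaximal] [CommRing R] [IsLocalRing R] [Algebra D R] [IsLocalization.AtPrime R m]
    (M : Ideal D') (hM : ∀ P : Ideal D', P.IsMaximal → P.comap (algebraMap D D') = m → P = M)
    (hres : ∀ x : D', ∃ c : D, x - algebraMap D D' c ∈ M) : CAlg2.IsGeomUnibranch R := by
  haveI : IsDomain R := IsLocalization.isDomain_of_le_nonZeroDivisors (M := m.primeCompl) (S := R) m.primeCompl_le_nonZeroDivisors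
  let e₀ : CAlg2.red R ≃+* R :=
    (Ideal.quotEquivOfEq (show nilradical R = ⊥ by rw [nilradical_eq_zero R]; rfl)).trans (RingEquiv.quotientBot R)
  haveI hdom : IsDomain (CAlg2.red R) := e₀.toMulEquiv.isDomain R
  let j : D →+* CAlg2.red R := algebraMap D (CAlg2.red R)
  let F := FractionRing (CAlg2.red R)
  have hj : Function.Injective j := by
    intro x y h
    have h1 : algebraMap D R x = algebraMap D R y := by
      have h2 := Ideal.Quotient.eq.1 h
      rw [nilradical_eq_zero R] at h2
      exact sub_eq_zero.1 h2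
    exact IsLocalization.injective R m.primeCompl_le_nonZeroDivisors h1
  have hDF : Function.Injective (algebraMap D F) := by
    rw [IsScalarTower.algebraMap_eq D (CAlg2.red R) F]
    exact (IsFractionRing.injective (CAlg2.red R) F).comp hj
  have hred : ∀ x : CAlg2.red R, ∃ d s : D, s ∉ m ∧ x * j s = j d := fun x => by
    obtain ⟨r, rfl⟩ := Ideal.Quotient.mk_surjective x
    obtain ⟨⟨d, s⟩, h⟩ := IsLocalization.surj m.primeCompl r
    exact ⟨d, s, s.2, congrArg (Ideal.Quotient.mk (nilradical R)) h⟩
  haveI : FaithfulSMul D F := (faithfulSMul_iff_algebraMap_injective D F).2 hDF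
  haveI : IsFractionRing D F := IsFractionRing.of_field _ _ fun z => by
    obtain ⟨x, y, hy, rfl⟩ := IsFractionRing.div_surjective (A := CAlg2.red R) z
    obtain ⟨a, s, hs, ha⟩ := hred x
    obtain ⟨b, t, ht, hb⟩ := hred y
    refine ⟨a * t, b * s, ?_⟩
    have hs0 : s ≠ 0 := fun h => hs (h ▸ m.zero_mem)
    have ht0 : t ≠ 0 := fun h => ht (h ▸ m.zero_mem)
    have hy0 : algebraMap (CAlg2.red R) F y ≠ 0 := IsFractionRing.to_map_ne_zero_of_mem_nonZeroDivisors hy
    have e : ∀ d : D, algebraMap D F d = algebraMap (CAlg2.red R) F (j d) := fun d => IsScalarTower.algebraMap_apply D (CAlg2.red R) F d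
    have hb0 : algebraMap D F b ≠ 0 := by
      rw [e, ← hb, map_mul]
      exact mul_ne_zero hy0 fun h => ht0 (hDF (h.trans (map_zero _).symm))
    rw [div_eq_div_iff hy0 ?_]
    · rw [map_mul, map_mul, e, e, e, e, ← ha, ← hb, map_mul, map_mul]; ring
    · rw [map_mul]
      exact mul_ne_zero hb0 fun h => hs0 (hDF (h.trans (map_zero _).symm))
  haveI : IsDomain D' := ‹_›
  haveI : FaithfulSMul D (FractionRing D') := (faithfulSMul_iff_algebraMap_injective D _).2 (by
    rw [IsScalarTower.algebraMap_eq D D' (FractionRing D')]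
    exact (IsFractionRing.injective D' (FractionRing D')).comp hinj)
  haveI : IsFractionRing D (FractionRing D') := IsFractionRing.of_field _ _ fun z => by
    obtain ⟨x, y, hy, rfl⟩ := IsFractionRing.div_surjective (A := D') z
    obtain ⟨a, b, ha, hx⟩ := hbir x
    obtain ⟨c, d, hc, hd⟩ := hbir y
    refine ⟨b * c, d * a, ?_⟩
    have ha0 : algebraMap D D' a ≠ 0 := fun h => ha (hinj (h.trans (map_zero _).symm))
    have hc0 : algebraMap D D' c ≠ 0 := fun h => hc (hinj (h.trans (map_zero _).symm))
    have hy0 := IsFractionRing.to_map_ne_zero_of_mem_nonZeroDivisors (K := FractionRing D') hy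
    have h0 : ∀ w : D', w ≠ 0 → algebraMap D' (FractionRing D') w ≠ 0 := fun w hw =>
      (map_ne_zero_iff _ (IsFractionRing.injective D' (FractionRing D'))).2 hw
    simp only [map_mul, IsScalarTower.algebraMap_apply D D' (FractionRing D'), ← hx, ← hd]
    rw [div_eq_div_iff hy0 (mul_ne_zero (mul_ne_zero hy0 (h0 _ hc0)) (h0 _ ha0))]
    ring
  let e : FractionRing D' ≃ₐ[D] F := IsLocalization.algEquiv (nonZeroDivisors D) _ _
  let ι : D' →ₐ[D] F := e.toAlgHom.comp (IsScalarTower.toAlgHom D D' (FractionRing D'))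
  haveI hIC : IsIntegralClosure D' D (FractionRing D') :=
    { algebraMap_injective := IsFractionRing.injective D' _
      isIntegral_iff := fun {x} => by
        constructor
        · intro hx
          exact IsIntegrallyClosed.isIntegral_iff.1 (hx.tower_top (A := D'))
        · rintro ⟨y, rfl⟩
          exact (Algebra.IsIntegral.isIntegral (R := D) y).algebraMap }
  have hint : ∀ z : F, IsIntegral D z → ∃ y : D', ι y = z := fun z hz => by
    obtain ⟨y, hy⟩ := hIC.isIntegral_iff.1 (hz.map e.symm.toAlgHom)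
    exact ⟨y, (congrArg e hy).trans (e.apply_symm_apply z)⟩
  let N := CAlg2.normRed R
  have hmem : ∀ y : D', ι y ∈ integralClosure (CAlg2.red R) F := fun y => by
    obtain ⟨P, hP, hP0⟩ := ((Algebra.IsIntegral.isIntegral (R := D) y).map ι : IsIntegral D (ι y))
    refine ⟨P.map j, hP.map j, ?_⟩
    rw [Polynomial.eval₂_map, ← IsScalarTower.algebraMap_eq D (CAlg2.red R) F]
    exact hP0
  let η : D' →+* N := ι.toRingHom.codRestrict _ hmem
  have hclear : ∀ z : N, ∃ (s : D) (y : D'), s ∉ m ∧ z * η (algebraMap D D' s) = η y := fun z => by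
    haveI : IsLocalization.AtPrime (CAlg2.red R) m := by
      refine IsLocalization.isLocalization_of_algEquiv m.primeCompl (S := R)
        (AlgEquiv.ofRingEquiv (f := e₀.symm) fun d => ?_)
      exact rfl
    obtain ⟨s, hs⟩ := IsIntegral.exists_multiple_integral_of_isLocalization m.primeCompl (z : F) z.2
    obtain ⟨y, hy⟩ := hint _ hs
    refine ⟨s, y, s.2, Subtype.ext ?_⟩
    show (z : F) * ι (algebraMap D D' (s : D)) = ι y
    rw [hy, ι.commutes, mul_comm, Submonoid.smul_def, Algebra.smul_def]
  have huN : ∀ s : D, s ∉ m → IsUnit (η (algebraMap D D' s)) := fun s hs => by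
    have hu : IsUnit (j s) := (IsLocalization.map_units R (⟨s, hs⟩ : m.primeCompl)).map (Ideal.Quotient.mk (nilradical R))
    have h2 := hu.map (algebraMap (CAlg2.red R) N)
    convert h2 using 1
    exact Subtype.ext ((ι.commutes s).trans (IsScalarTower.algebraMap_apply D (CAlg2.red R) F s))
  have hcontr : ∀ I : Ideal N, I.IsMaximal → I.comap η = M := fun I hI => by
    haveI := hI
    haveI : (I.comap η).IsPrime := Ideal.comap_isPrime _ _
    have h1 : (I.comap η).comap (algebraMap D D') = m := by
      refine Ideal.IsMaximal.eq_of_le ‹_› (Ideal.IsPrime.ne_top inferInstance) ?_ |>.symm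
      intro s hs
      by_contra hns
      haveI : (I.comap (algebraMap (CAlg2.red R) N)).IsMaximal := Ideal.isMaximal_comap_of_isIntegral_of_isMaximal I
      have h2 : I.comap (algebraMap (CAlg2.red R) N) = maximalIdeal (CAlg2.red R) := IsLocalRing.eq_maximalIdeal ‹_›
      refine hns ?_
      show η (algebraMap D D' s) ∈ I
      have h3 : j s ∈ maximalIdeal (CAlg2.red R) := fun hu => by
        have h4 : IsUnit (algebraMap D R s) := hu.map e₀
        exact (IsLocalization.AtPrime.isUnit_to_map_iff R m s).1 h4 hs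
      rw [← h2] at h3
      convert Ideal.mem_comap.1 h3 using 1
      exact Subtype.ext ((ι.commutes s).trans (IsScalarTower.algebraMap_apply D (CAlg2.red R) F s))
    have h5 : (I.comap η).IsMaximal := Ideal.isMaximal_of_isIntegral_of_isMaximal_comap (R := D) _ (h1 ▸ ‹_›)
    exact hM _ h5 h1
  have hle : ∀ I J : Ideal N, I.IsMaximal → J.IsMaximal → I ≤ J := fun I J hI hJ z hz => by
    obtain ⟨s, y, hs, hy⟩ := hclear z
    have h1 : y ∈ M := hcontr I hI ▸ (show η y ∈ I from hy ▸ I.mul_mem_right _ hz)
    rw [← hcontr J hJ] at h1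
    have h2 : z * η (algebraMap D D' s) ∈ J := hy.symm ▸ (show η y ∈ J from h1)
    exact (hJ.isPrime.mem_or_mem h2).resolve_right fun h => hJ.ne_top (Ideal.eq_top_of_isUnit_mem _ h (huN s hs))
  obtain ⟨I₀, hI₀⟩ := Ideal.exists_maximal N
  refine ⟨⟨hdom, IsLocalRing.of_unique_max_ideal ⟨I₀, hI₀, fun I hI => le_antisymm (hle I I₀ hI hI₀) (hle I₀ I hI₀ hI)⟩⟩, ?_⟩
  intro I hI x
  obtain ⟨z, rfl⟩ := Ideal.Quotient.mk_surjective x
  obtain ⟨s, y, hs, hy⟩ := hclear z
  obtain ⟨c, hc⟩ := hres y
  refine ⟨0, ?_⟩
  rw [pow_zero, pow_one]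
  obtain ⟨u, hu⟩ := (IsLocalization.map_units R (⟨s, hs⟩ : m.primeCompl)).exists_right_inv
  let f : R →+* N ⧸ I := (Ideal.Quotient.mk I).comp ((algebraMap (CAlg2.red R) N).comp (Ideal.Quotient.mk (nilradical R)))
  refine ⟨algebraMap D R c * u, ?_⟩
  show f (algebraMap D R c * u) = Ideal.Quotient.mk I z
  have hfd : ∀ d : D, f (algebraMap D R d) = Ideal.Quotient.mk I (η (algebraMap D D' d)) := fun d =>
    congrArg (Ideal.Quotient.mk I) (Subtype.ext ((IsScalarTower.algebraMap_apply D (CAlg2.red R) F d).symm.trans (ι.commutes d).symm))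
  have e1 : Ideal.Quotient.mk I (η y) = f (algebraMap D R c) := by
    rw [hfd, Ideal.Quotient.eq, ← map_sub]
    exact Ideal.mem_comap.1 ((hcontr I hI).symm ▸ hc)
  have e2 : f (algebraMap D R s) * f u = 1 := by rw [← map_mul, hu, map_one]
  rw [map_mul, ← e1, ← hy, map_mul, ← hfd, mul_assoc, e2, mul_one]

end Groth.Agent.TensorBranch7
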